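import Cfsg.Agent.Helper28.CosetCox
set_option autoImplicit false
set_option maxRecDepth 1000000
namespace Cfsg.Agent.Helper96.L34.Perm3
open Cfsg.Agent.Helper28
def leaf0 : Nat := 0x28c759b267d4df637c2f55142ceb378f71b2be9c9a60f39ad65e4ee530b1365380f4bad382aa28458dd1c668148d200
def leaf1 : Nat := 0x26e216ed814d16f12b3af73c9142e7cd8fe97b69c24c2e2dab229a05e7575ec55dc3c2fa8f0996279011c62974ce100
def leaf2 : Nat := 0x26bb76f4520b5e4bc4508b9d6ceb835f8fe97b69c270bfd748ae9a05cf2d9657185330b097a871a790e65828f0c1004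
def leaf3 : Nat := 0x288349adc2cf17bfa65852287ddee74d71b2be9c9a714f8ab67e4ee51c63965794b5cf2108ad14058de30b6800cf081
def leaf4 : Nat := 0x338e2d5adabf9553d4de75963aabb9e430bcb0bf93f8d08dfc869a171c6491403816badc44b2694139f71b28008d245
def leaf5 : Nat := 0x37d1eb2e9227f9ee1fa73e695140de2d71bacc2eaf7c753232c471bac2f692db5cd75958c90a9a0506065800e503284
def leaf6 : Nat := 0x23ae092c5dff52e783f378ec0dbaadfa2a9f8999a9c889dd13f0573b119d435b6c54091cafb413289610076d85502c6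
def leaf7 : Nat := 0x27ddd6aad74ad45dfc8f4ef3ad37af6ca0a8e527bfa123ce3181b164604e550d27b6402cf0b8b0699a2180719591307
def leaf8 : Nat := 0x3ef7cefae78df6d74cf2c70beeb6caeaa689e69648e28607de75c6da6585d65544d24503ce34c2ca2481c61440c2040
def leaf9 : Nat := 0x3ef7cefae78df6d74cf2c70beeb6caeaa689e69648e28607de75c6da6585d65544d24503ce34c2ca2481c61440c2040
def letTr : Tr := (.node (.node (.node (.node (.leaf leaf0) (.leaf leaf8)) (.leaf leaf4)) (.node (.leaf leaf2) (.leaf leaf6))) (.node (.node (.node (.leaf leaf1) (.leaf leaf9)) (.leaf leaf5)) (.node (.leaf leaf3) (.leaf leaf7))))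
def wordsTr : WTr := (.node (.node (.node (.node (.node (.node (.node (.leaf []) (.leaf [9, 8])) (.leaf [0, 2, 2, 1, 2, 0, 3, 0, 3, 3, 1, 2])) (.node (.leaf []) (.leaf [6, 0, 7, 1]))) (.node (.node (.leaf []) (.leaf [0, 3, 4, 1, 3, 0, 4, 2, 5, 1, 2, 0, 5, 2, 1, 2])) (.node (.leaf []) (.leaf [1, 0])))) (.node (.node (.node (.leaf []) (.leaf [1, 2, 5, 1, 1, 3, 5, 2, 4, 2, 0, 0, 4, 3, 0, 2])) (.node (.leaf []) (.leaf [8, 2, 9, 3]))) (.node (.node (.leaf []) (.leaf [0, 0, 3, 3, 0, 5, 1, 4, 4, 0, 4, 1, 2, 2, 1, 1, 5])) (.node (.leaf [2, 1, 2, 1, 2, 0, 3, 0, 3, 0]) (.leaf [5, 4]))))) (.node (.node (.node (.node (.leaf []) (.leaf [4, 2, 1, 1, 2, 1, 5, 0, 4, 0, 3, 0, 0, 3, 5, 0])) (.node (.leaf []) (.leaf [6, 4, 7, 5]))) (.node (.node (.leaf []) (.leaf [4, 4, 3, 0, 4, 4, 1, 2, 0, 5, 5, 1, 2, 5, 5, 1])) (.node (.leaf [2, 2, 2, 2, 2]) (.leaf [3, 2])))) (.node (.node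 (.node (.leaf []) (.leaf [5, 3, 1, 4, 2, 0, 5, 2, 4, 1, 3, 5, 0, 2, 4, 2])) (.node (.leaf []) (.leaf [6, 8, 7, 9]))) (.node (.node (.leaf []) (.leaf [0, 3, 3, 4, 4, 4, 2, 4, 3, 5, 7])) (.node (.leaf [2, 1, 2, 1, 2, 2, 0, 3, 0, 3, 0, 0]) (.leaf [7, 6])))))) (.node (.node (.node (.node (.node (.node (.leaf []) (.leaf [])) (.leaf [1, 5, 0, 3, 3, 0, 4, 1, 2, 2, 1, 4, 0, 5, 5])) (.node (.leaf []) (.leaf [6, 2, 7, 3]))) (.node (.node (.leaf []) (.leaf [0, 4, 4, 3, 0, 4, 4, 0, 5, 5, 1, 2, 5, 5, 1, 3])) (.node (.leaf [0, 0, 0, 0, 0]) (.leaf [2, 3])))) (.node (.node (.node (.leaf []) (.leaf [5, 3, 1, 4, 2, 0, 5, 0, 4, 1, 3, 5, 0, 2, 4, 0])) (.node (.leaf []) (.leaf [8, 4, 9, 5]))) (.node (.node (.leaf []) (.leaf [5, 3, 1, 4, 2, 0, 5, 2, 2, 4, 1, 3, 5, 0, 2, 4, 2, 2])) (.node (.leaf [3, 1, 1, 2, 1, 2, 0, 3, 0, 0, 2, 0]) (.leaf [6, 7]))))) (.node (.node (.node (.node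 (.leaf []) (.leaf [4, 2, 0, 0, 4, 2, 1, 2, 0, 3, 5, 1, 1, 3, 5, 1])) (.node (.leaf []) (.leaf [8, 0, 9, 1]))) (.node (.node (.leaf []) (.leaf [0, 4, 0, 0, 3, 3, 0, 4, 1, 2, 2, 1, 1, 5, 1, 5, 5])) (.node (.leaf [4, 4, 4, 4, 4, 4, 4]) (.leaf [4, 5])))) (.node (.node (.node (.leaf []) (.leaf [3, 0, 4, 1, 3, 0, 4, 0, 5, 1, 2, 0, 5, 1, 2, 0])) (.node (.leaf []) (.leaf [0, 1]))) (.node (.node (.leaf []) (.leaf [0, 4, 0, 4, 0, 4, 9])) (.node (.leaf [3, 0, 3, 0, 2, 2, 1, 2, 1, 2, 0, 0]) (.leaf [8, 9])))))))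
noncomputable def tabs : Tabs where
  M := 1
  nsub := 0
  nwords := 66
  word := wordsTr.get
  defn := fun _ => 0
  fact := fun _ => 0
noncomputable def ptabs : PTabs where
  n := 63
  L := 10
  perm := fun l i => Nat.land (Nat.shiftRight (letTr.get l) (Nat.mul 6 i)) 63
  fin := fun _ _ => 0
  par := fun _ => 0
theorem perm_eq : ∀ l i, ptabs.perm l i = Nat.land (Nat.shiftRight (letTr.get l) (Nat.mul 6 i)) 63 := fun _ _ => rfl
end Cfsg.Agent.Helper96.L34.Perm3
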