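import Cfsg.Agent.Helper96.L34.Perm3.Data
set_option autoImplicit false
set_option maxRecDepth 1000000
namespace Cfsg.Agent.Helper96.L34.Perm3
open Cfsg.Agent.Helper28
theorem inv_ok : invOk ptabs = true := by decide +kernel
end Cfsg.Agent.Helper96.L34.Perm3
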